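import Groth.Agent.S0209

/-!
# Lines on hypersurfaces of small degree (node HD5 of S16940)
-/

set_option autoImplicit false

universe u

open MvPolynomial

namespace K384.HonLine

variable {k : Type u} [Field k] {n d : ℕ}

/-- The coefficient of `t^j` is homogeneous of degree `j`. -/
def Hg (Q : Polynomial (MvPolynomial (Fin (n + 1)) k)) : Prop := ∀ j, (Q.coeff j).IsHomogeneous j

theorem Hg.add {P Q : Polynomial (MvPolynomial (Fin (n + 1)) k)} (hP : Hg P) (hQ : Hg Q) : Hg (P + Q) := fun j => by
  rw [Polynomial.coeff_add]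
  exact (hP j).add (hQ j)

theorem Hg.mul {P Q : Polynomial (MvPolynomial (Fin (n + 1)) k)} (hP : Hg P) (hQ : Hg Q) : Hg (P * Q) := fun j => by
  rw [Polynomial.coeff_mul]
  refine IsHomogeneous.sum _ _ _ fun x hx => ?_
  rw [Finset.mem_antidiagonal] at hx
  rw [← hx]
  exact (hP _).mul (hQ _)

theorem Hg.const (c : k) : Hg (n := n) (Polynomial.C (C c)) := fun j => by
  rw [Polynomial.coeff_C]
  split_ifs with h
  · rw [h]
    exact isHomogeneous_C _ _
  · exact isHomogeneous_zero _ _ _

theorem Hg.var (l : Fin (n + 1)) : Hg (k := k) (Polynomial.C (X l) * Polynomial.X) := fun j => by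
  rw [Polynomial.coeff_C_mul, Polynomial.coeff_X]
  split_ifs with h
  · rw [← h, mul_one]
    exact isHomogeneous_X _ _
  · rw [mul_zero]
    exact isHomogeneous_zero _ _ _

/-- The polynomial `G(a + t X)`. -/
noncomputable def sub (a : Fin (n + 1) → k) (G : MvPolynomial (Fin (n + 1)) k) :
    Polynomial (MvPolynomial (Fin (n + 1)) k) :=
  eval₂ (Polynomial.C.comp C) (fun l => Polynomial.C (C (a l)) + Polynomial.C (X l) * Polynomial.X) G

theorem hg_sub (a : Fin (n + 1) → k) (G : MvPolynomial (Fin (n + 1)) k) : Hg (sub a G) := by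
  induction G using MvPolynomial.induction_on with
  | C c =>
    rw [sub, eval₂_C]
    exact Hg.const c
  | add p q hp hq =>
    rw [sub, eval₂_add]
    exact hp.add hq
  | mul_X p l hp =>
    rw [sub, eval₂_mul, eval₂_X]
    exact hp.mul ((Hg.const _).add (Hg.var l))

theorem natDegree_sub (a : Fin (n + 1) → k) {G : MvPolynomial (Fin (n + 1)) k} (hG : G.IsHomogeneous d) :
    (sub a G).natDegree ≤ d := by
  rw [sub, eval₂_eq]
  refine Polynomial.natDegree_sum_le_of_forall_le _ _ fun m hm => ?_
  have h1 : m.degree = d := by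
    by_contra hne
    exact (mem_support_iff.mp hm) (hG.coeff_eq_zero hne)
  refine Polynomial.natDegree_mul_le.trans ?_
  have h2 : (Polynomial.C.comp (C : k →+* MvPolynomial (Fin (n + 1)) k) (coeff m G)).natDegree = 0 :=
    Polynomial.natDegree_C _
  rw [h2, zero_add]
  refine (Polynomial.natDegree_prod_le _ _).trans ?_
  rw [← h1, Finsupp.degree]
  refine Finset.sum_le_sum fun i _ => ?_
  refine Polynomial.natDegree_pow_le.trans ?_
  have h3 : (Polynomial.C (C (a i)) + Polynomial.C (X i) * Polynomial.X :
      Polynomial (MvPolynomial (Fin (n + 1)) k)).natDegree ≤ 1 := by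
    refine (Polynomial.natDegree_add_le _ _).trans ?_
    rw [Polynomial.natDegree_C]
    exact max_le (by omega) ((Polynomial.natDegree_C_mul_le _ _).trans Polynomial.natDegree_X_le)
  calc m i * _ ≤ m i * 1 := Nat.mul_le_mul_left _ h3
    _ = m i := mul_one _

/-- The values of `G(a + t X)`. -/
theorem eval_sub (a b : Fin (n + 1) → k) (G : MvPolynomial (Fin (n + 1)) k) (t : k) :
    Polynomial.eval t ((sub a G).map (eval b)) = eval (a + t • b) G := by
  induction G using MvPolynomial.induction_on with
  | C c =>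
    rw [sub, eval₂_C, eval_C, RingHom.comp_apply, Polynomial.map_C, Polynomial.eval_C, eval_C]
  | add p q hp hq =>
    rw [sub, eval₂_add, Polynomial.map_add, Polynomial.eval_add, map_add, ← hp, ← hq]
    rfl
  | mul_X p l hp =>
    rw [sub, eval₂_mul, eval₂_X, Polynomial.map_mul, Polynomial.eval_mul, map_mul, ← hp]
    congr 1
    rw [Polynomial.map_add, Polynomial.map_mul, Polynomial.map_C, Polynomial.map_C, Polynomial.map_X,
      Polynomial.eval_add, Polynomial.eval_mul, Polynomial.eval_C, Polynomial.eval_C, Polynomial.eval_X, eval_C,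
      eval_X, eval_X, Pi.add_apply, Pi.smul_apply, smul_eq_mul, mul_comm t]

theorem eval_smul_of_isHomogeneous {σ : Type*} {p : MvPolynomial σ k} {e : ℕ}
    (hp : p.IsHomogeneous e) (c : k) (y : σ → k) : eval (c • y) p = c ^ e * eval y p := by
  rw [eval_eq, eval_eq, Finset.mul_sum]
  refine Finset.sum_congr rfl fun d hd => ?_
  have hde : d.degree = e := by
    by_contra hne
    exact (mem_support_iff.mp hd) (hp.coeff_eq_zero hne)
  simp only [Pi.smul_apply, smul_eq_mul, mul_pow, Finset.prod_mul_distrib,
    Finset.prod_pow_eq_pow_sum]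
  have : ∑ i ∈ d.support, d i = e := hde
  rw [this]
  ring

/-- Node HD5: a line on a hypersurface. -/
theorem exists_line [IsAlgClosed k] {G : MvPolynomial (Fin (n + 1)) k} (hG : G.IsHomogeneous d) (h0 : 1 ≤ d)
    (hd : d + 1 ≤ n) : ∃ a b : Fin (n + 1) → k, LinearIndependent k ![a, b] ∧
      ∀ s t : k, MvPolynomial.eval (s • a + t • b) G = 0 := by
  -- a point
  obtain ⟨a, ha, ha0⟩ := Groth.Agent.S0209.result k 1 (n + 1) (fun _ => G) (fun _ => d) (fun _ => hG) (fun _ => h0)
    (by simp; omega)
  obtain ⟨i, hi⟩ : ∃ i, a i ≠ 0 := by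
    by_contra hcon
    push Not at hcon
    exact ha (funext hcon)
  -- a direction
  obtain ⟨b, hb, hb0⟩ := Groth.Agent.S0209.result k (d + 1) (n + 1)
    (Fin.cases (X i) fun j => (sub a G).coeff (j + 1)) (Fin.cases 1 fun j => (j : ℕ) + 1)
    (fun ρ => by
      refine Fin.cases ?_ (fun j => ?_) ρ
      · exact isHomogeneous_X _ _
      · exact hg_sub a G _)
    (fun ρ => by
      refine Fin.cases ?_ (fun j => ?_) ρ
      · exact Nat.one_pos
      · exact Nat.succ_pos _)
    (by simp; omega)
  have hbi : b i = 0 := by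
    have := hb0 0
    rwa [Fin.cases_zero, eval_X] at this
  have hbj : ∀ j : ℕ, (sub a G).coeff j = 0 ∨ eval b ((sub a G).coeff j) = 0 := by
    intro j
    rcases Nat.eq_zero_or_pos j with rfl | hj
    · right
      have h1 := eval_sub a b G 0
      rw [zero_smul, add_zero, ha0 0, ← Polynomial.coeff_zero_eq_eval_zero, Polynomial.coeff_map] at h1
      exact h1
    · rcases Nat.lt_or_ge d j with h | h
      · left
        exact Polynomial.coeff_eq_zero_of_natDegree_lt ((natDegree_sub a hG).trans_lt h)
      · right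
        have h1 := hb0 (Fin.succ ⟨j - 1, by omega⟩)
        rw [Fin.cases_succ] at h1
        have h2 : j - 1 + 1 = j := by omega
        simpa only [h2] using h1
  have hmap : (sub a G).map (eval b) = 0 := by
    ext j
    rw [Polynomial.coeff_map, Polynomial.coeff_zero]
    rcases hbj j with h | h
    · rw [h, map_zero]
    · exact h
  have h1 : ∀ t : k, eval (a + t • b) G = 0 := fun t => by
    rw [← eval_sub, hmap, Polynomial.eval_zero]
  have h2 : ∀ s t : k, s ≠ 0 → eval (s • a + t • b) G = 0 := fun s t hs => by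
    have h3 : s • a + t • b = s • (a + (s⁻¹ * t) • b) := by
      rw [smul_add, smul_smul, mul_inv_cancel_left₀ hs]
    rw [h3]
    rw [eval_smul_of_isHomogeneous hG, h1, mul_zero]
  refine ⟨a, b, ?_, fun s t => ?_⟩
  · rw [LinearIndependent.pair_iff]
    intro s t hst
    have h3 := congrFun hst i
    rw [Pi.add_apply, Pi.smul_apply, Pi.smul_apply, hbi, smul_zero, add_zero, smul_eq_mul, Pi.zero_apply] at h3
    have h4 : s = 0 := (mul_eq_zero.1 h3).resolve_right hi
    refine ⟨h4, ?_⟩
    rw [h4, zero_smul, zero_add] at hst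
    exact (smul_eq_zero.1 hst).resolve_right hb
  · by_cases hs : s = 0
    · -- the polynomial `G(x a + t b)` in `x` has infinitely many zeros
      let Q : Polynomial k := (sub (t • b) G).map (eval a)
      have hQ : ∀ x : k, Polynomial.eval x Q = eval (x • a + t • b) G := fun x => by
        rw [add_comm (x • a)]
        exact eval_sub (t • b) a G x
      have hQ0 : Q = 0 := by
        refine Polynomial.eq_zero_of_infinite_isRoot Q ?_
        refine Set.Infinite.mono (s := {x : k | x ≠ 0}) (fun x hx => ?_) ?_
        · change Polynomial.eval x Q = 0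
          rw [hQ]
          exact h2 x t hx
        · exact (Set.finite_singleton (0 : k)).infinite_compl
      rw [← hQ, hQ0, Polynomial.eval_zero]
    · exact h2 s t hs

end K384.HonLine
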