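import Groth.Agent.Fano.K239.HonDef
import Groth.Agent.EssDim.K995.CurveBasic
import Groth.Agent.Ega1.GenPts
import Groth.Agent.Sga4B.SmoothNormal
import Mathlib.AlgebraicGeometry.Morphisms.SmoothFiber
import Mathlib.AlgebraicGeometry.Morphisms.LocalFlatDescent

/-!
# Smooth families of curves of genus `0` from their geometric fibres
-/

set_option autoImplicit false

universe u

open CategoryTheory CategoryTheory.Limits AlgebraicGeometry

namespace K384.RecGen

/-- The fibre condition of `K239.HonDef.Rec`. -/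
def Fib {T C : Scheme.{u}} (f : C ⟶ T) (σ : Fin 3 → (T ⟶ C)) (hσ : ∀ i, σ i ≫ f = 𝟙 T) : Prop :=
  ∀ (Ω : Type u) [Field Ω] [IsAlgClosed Ω] (t : Spec (CommRingCat.of Ω) ⟶ T) (Xt : Scheme.{u}) (i : Xt ⟶ C)
      (q : Xt ⟶ Spec (CommRingCat.of Ω)) (hP : IsPullback i q f t),
      StMap.IsPrestablePtd Ω Xt q 0 (CurvSt.markedPt σ hσ hP) ∧ Smooth q

section Sections

variable {C T : Scheme.{u}} {f : C ⟶ T} [IsSeparated f] {σ τ : T ⟶ C} (hσ : σ ≫ f = 𝟙 T) (hτ : τ ≫ f = 𝟙 T)

include hσ in
theorem isClosedImmersion_sect : IsClosedImmersion σ := by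
  have : IsClosedImmersion (σ ≫ f) := by rw [hσ]; infer_instance
  exact IsClosedImmersion.of_comp σ f

include hσ hτ

omit [IsSeparated f] in
theorem fst_eq_snd : pullback.fst σ τ = pullback.snd σ τ := by
  have h := pullback.condition (f := σ) (g := τ)
  have h2 := congrArg (· ≫ f) h
  simp only [Category.assoc, hσ, hτ, Category.comp_id] at h2
  exact h2

/-- Sections through the same point agree on field-valued points. -/
theorem comp_eq_of_apply_eq {K : Type u} [Field K] (t : Spec (CommRingCat.of K) ⟶ T)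
    (h : σ (t (IsLocalRing.closedPoint K)) = τ (t (IsLocalRing.closedPoint K))) : t ≫ σ = t ≫ τ := by
  have h1 := isClosedImmersion_sect hσ
  have h2 : IsClosedImmersion (pullback.snd σ τ) := inferInstance
  obtain ⟨z, -, hz⟩ := Scheme.Pullback.exists_preimage_pullback (f := σ) (g := τ) _ _ h
  let j := pullback.snd (pullback.snd σ τ) t
  have h3 : IsClosedImmersion j := inferInstanceAs (IsClosedImmersion (pullback.snd (pullback.snd σ τ) t))
  obtain ⟨w, -, -⟩ := Scheme.Pullback.exists_preimage_pullback (f := pullback.snd σ τ) (g := t) z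
    (IsLocalRing.closedPoint K) hz
  have h4 : Surjective j := ⟨fun x => ⟨w, Subsingleton.elim _ _⟩⟩
  have h5 : IsIso j := isIso_of_isClosedImmersion_of_surjective j
  have h6 : t = inv j ≫ pullback.fst (pullback.snd σ τ) t ≫ pullback.snd σ τ := by
    rw [IsIso.eq_inv_comp]
    exact pullback.condition.symm
  have h7 := pullback.condition (f := σ) (g := τ)
  rw [fst_eq_snd hσ hτ] at h7
  rw [h6, Category.assoc, Category.assoc, h7, Category.assoc, Category.assoc]

end Sections

variable {T C : Scheme.{u}} {f : C ⟶ T} {σ : Fin 3 → (T ⟶ C)} {hσ : ∀ i, σ i ≫ f = 𝟙 T}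

/-- `Spec K → Spec k` is surjective, flat and quasi-compact. -/
lemma surj_flat_qc {k K : Type u} [Field k] [Field K] (φ : k →+* K) :
    (@Surjective ⊓ @Flat ⊓ @QuasiCompact : MorphismProperty Scheme.{u})
      (Spec.map (CommRingCat.ofHom φ)) := by
  refine ⟨⟨⟨fun y => ⟨IsLocalRing.closedPoint K, Subsingleton.elim _ _⟩⟩, ?_⟩, inferInstance⟩
  rw [HasRingHomProperty.Spec_iff (P := @Flat)]
  algebraize [φ]
  exact (inferInstance : Module.Flat k K)

theorem smooth (h : Fib f σ hσ) [Flat f] [LocallyOfFinitePresentation f] : Smooth f := by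
  refine Smooth.of_smooth_fiberToSpecResidueField f fun s => ?_
  let a : Spec (CommRingCat.of (AlgebraicClosure (T.residueField s))) ⟶ Spec (T.residueField s) :=
    Spec.map (CommRingCat.ofHom (algebraMap (T.residueField s) (AlgebraicClosure (T.residueField s))))
  have h1 : IsPullback (Limits.pullback.fst f (a ≫ T.fromSpecResidueField s))
      (Limits.pullback.snd f (a ≫ T.fromSpecResidueField s)) f (a ≫ T.fromSpecResidueField s) :=
    IsPullback.of_hasPullback _ _
  have h2 : IsPullback (f.fiberι s) (f.fiberToSpecResidueField s) f (T.fromSpecResidueField s) :=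
    IsPullback.of_hasPullback f (T.fromSpecResidueField s)
  have h3 := IsPullback.of_right' h1 h2
  have h4 : (@Surjective ⊓ @Flat ⊓ @QuasiCompact : MorphismProperty Scheme.{u}) a :=
    surj_flat_qc (algebraMap (T.residueField s) (AlgebraicClosure (T.residueField s)))
  exact MorphismProperty.of_isPullback_of_descendsAlong (P := @Smooth)
    (Q := @Surjective ⊓ @Flat ⊓ @QuasiCompact) h3.flip h4 (h _ _ _ _ _ h1).2

/-- A smooth connected scheme over a field is irreducible. -/
theorem irreducibleSpace_of_smooth {k : Type u} [Field k] {X : Scheme.{u}} (f : X ⟶ Spec (CommRingCat.of k))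
    [Smooth f] [ConnectedSpace X] : IrreducibleSpace X := by
  have h1 : IsLocallyNoetherian X := LocallyOfFiniteType.isLocallyNoetherian f
  have : IsIntegral X := by
    rw [Groth.Agent.Ega1.GenPts.isIntegral_iff]
    exact ⟨inferInstance, fun x => (Groth.Agent.Sga4B.SmoothNormal.isNormalScheme_of_smooth f x).1⟩
  infer_instance

theorem isCurveOfGenus (h : Fib f σ hσ) [Flat f] [IsProper f] [LocallyOfFinitePresentation f] :
    ModFun.IsCurveOfGenus 0 f := by
  have hs : Smooth f := smooth h
  refine ⟨hs, ‹_›, ⟨fun K _ y Z fst snd hZ => ?_⟩, fun Ω _ _ t X i q hP => ?_⟩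
  · let Ω := AlgebraicClosure K
    let b : Spec (CommRingCat.of Ω) ⟶ Spec (CommRingCat.of K) := Spec.map (CommRingCat.ofHom (algebraMap K Ω))
    have hb : Surjective b := (surj_flat_qc (algebraMap K Ω)).1.1
    have sq := IsPullback.of_hasPullback snd b
    have sq' := sq.paste_horiz hZ
    obtain ⟨⟨a1, a2, -⟩, a3⟩ := h Ω (b ≫ y) _ _ _ sq'
    have : ConnectedSpace (pullback snd b : Scheme.{u}) := a2
    have : Smooth (pullback.snd snd b) := a3
    have : IrreducibleSpace (pullback snd b : Scheme.{u}) := irreducibleSpace_of_smooth (pullback.snd snd b)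
    have hsurj : Surjective (pullback.fst snd b) := MorphismProperty.of_isPullback sq.flip hb
    exact hsurj.surj.irreducibleSpace (pullback.fst snd b).continuous
  · obtain ⟨⟨-, -, b3, b4, -⟩, -⟩ := h Ω t X i q hP
    exact ⟨b3, b4.2⟩


theorem exists_geom (t : T) : ∃ (Ω : Type u) (_ : Field Ω) (_ : IsAlgClosed Ω) (g : Spec (CommRingCat.of Ω) ⟶ T),
    g (IsLocalRing.closedPoint Ω) = t := by
  let a : Spec (CommRingCat.of (AlgebraicClosure (T.residueField t))) ⟶ Spec (T.residueField t) :=
    Spec.map (CommRingCat.ofHom (algebraMap (T.residueField t) (AlgebraicClosure (T.residueField t))))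
  refine ⟨AlgebraicClosure (T.residueField t), inferInstance, inferInstance, a ≫ T.fromSpecResidueField t, ?_⟩
  change (T.fromSpecResidueField t) (a _) = t
  exact T.fromSpecResidueField_apply t _

/-- The sections are pairwise different at every point. -/
theorem sect_ne (h : Fib f σ hσ) [IsSeparated f] {i j : Fin 3} (hij : i ≠ j) (t : T) : σ i t ≠ σ j t := by
  intro he
  obtain ⟨Ω, _, _, g, rfl⟩ := exists_geom t
  have hP := IsPullback.of_hasPullback f g
  obtain ⟨⟨-, -, -, -, hinj, -⟩, -⟩ := h Ω g _ _ _ hP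
  refine hij (hinj ?_)
  have h1 := comp_eq_of_apply_eq (hσ i) (hσ j) g he
  have h2 : hP.lift (g ≫ σ i) (𝟙 _) (by rw [Category.assoc, hσ, Category.comp_id, Category.id_comp]) =
      hP.lift (g ≫ σ j) (𝟙 _) (by rw [Category.assoc, hσ, Category.comp_id, Category.id_comp]) := by
    congr 1
  exact congrArg (fun z : Spec (CommRingCat.of Ω) ⟶ _ => z.base (IsLocalRing.closedPoint Ω)) h2

end K384.RecGen
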