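import Groth.Agent.Fano.K384.RecGlue
import Groth.Agent.Fano.K384.RecGen
import Groth.Agent.Fano.K458.HonB1
import Groth.Agent.Fano.K15.HonB2
import Groth.Agent.Fano.K239.HonDef2
import Groth.Agent.Fano.K314.CrvPull
import Groth.Agent.Fano.K188.FamIso

/-!
# Products with the family of projective lines with distinct sections (node HB5 of S16940)
-/

set_option autoImplicit false

universe u

open CategoryTheory CategoryTheory.Limits AlgebraicGeometry

namespace K384.Hb5

open K390.PnSec Groth.Agent.Fdesc.LocGen Groth.Agent.Dix.ProjProper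
open K188.LineDef K188.LinFun K505.KonDef K239.HonDef K639.HonA K384.RecNorm

variable {k : Type u} [Field k] {r : ℕ}

/-- The last three sections of `B0`. -/
theorem B0_natAdd (i : Fin 3) : (B0 k r).sect (Fin.natAdd r i) = std3 (QO k r).left i :=
  Fin.addCases_right (motive := fun _ => ((QO k r).left ⟶ P1 (QO k r).left)) (left := fun i => aff (xF k r i))
    (right := std3 (QO k r).left) i

/-- The first sections of `B0`. -/
theorem B0_castAdd (i : Fin r) : (B0 k r).sect (Fin.castAdd 3 i) = aff (xF k r i) :=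
  Fin.addCases_left (motive := fun _ => ((QO k r).left ⟶ P1 (QO k r).left)) (left := fun i => aff (xF k r i))
    (right := std3 (QO k r).left) i

/-- A morphism to `B0` gives coordinates. -/
theorem exists_iso_of_hom {A : CurvSt.PtFamObj (Spec (CommRingCat.of k)) (r + 3)} (a : A ⟶ B0 k r) :
    ∃ ψ : A.C ≅ P1 A.base.left, ψ.hom ≫ pr A.base.left = A.f ∧ ψ.hom ≫ pmap a.base.left = a.top ∧
      (∀ i, A.sect (Fin.natAdd r i) ≫ ψ.hom = std3 _ i) ∧
      ∀ i, A.sect (Fin.castAdd 3 i) ≫ ψ.hom = aff (a.base.left.appTop (xF k r i)) := by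
  let ψ : A.C ≅ P1 A.base.left := a.cart.isoIsPullback _ _ (isPullback_pmap a.base.left)
  have h1 : ψ.hom ≫ pmap a.base.left = a.top := a.cart.isoIsPullback_hom_fst _ _ (isPullback_pmap a.base.left)
  have h2 : ψ.hom ≫ pr A.base.left = A.f := a.cart.isoIsPullback_hom_snd _ _ (isPullback_pmap a.base.left)
  have h3 : ∀ i : Fin 3, A.sect (Fin.natAdd r i) ≫ a.top = a.base.left ≫ std3 (QO k r).left i := fun i =>
    (a.w_sect _).trans (congrArg (fun x => a.base.left ≫ x) (B0_natAdd i))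
  have h4 : ∀ i : Fin r, A.sect (Fin.castAdd 3 i) ≫ a.top = a.base.left ≫ aff (xF k r i) := fun i =>
    (a.w_sect _).trans (congrArg (fun x => a.base.left ≫ x) (B0_castAdd i))
  refine ⟨ψ, h2, h1, fun i => (isPullback_pmap a.base.left).hom_ext ?_ ?_,
    fun i => (isPullback_pmap a.base.left).hom_ext ?_ ?_⟩
  · rw [Category.assoc, h1]
    exact (h3 i).trans (std3_pmap _ i).symm
  · rw [Category.assoc, h2, A.sect_f, std3_pr]
  · rw [Category.assoc, h1]
    exact (h4 i).trans (aff_pmap _ _).symm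
  · rw [Category.assoc, h2, A.sect_f, aff_pr]

/-- There is at most one morphism to `B0`. -/
theorem hom_unique {A : CurvSt.PtFamObj (Spec (CommRingCat.of k)) (r + 3)} (a a' : A ⟶ B0 k r) : a = a' := by
  obtain ⟨ψ, h1, h2, h3, h4⟩ := exists_iso_of_hom a
  obtain ⟨ψ', h1', h2', h3', h4'⟩ := exists_iso_of_hom a'
  have h5 : ψ.inv ≫ ψ'.hom = 𝟙 _ := by
    refine eq_id_of_std3 _ ?_ fun i => ?_
    · rw [Category.assoc, h1', Iso.inv_comp_eq, h1]
    · rw [← h3 i, Category.assoc, Iso.hom_inv_id_assoc, h3', h3]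
  rw [Iso.inv_comp_eq, Category.comp_id] at h5
  have h6 : ∀ i, a.base.left.appTop (xF k r i) = a'.base.left.appTop (xF k r i) := fun i =>
    aff_injective (by rw [← h4, ← h4', h5])
  have h7 : a.base = a'.base := by
    have hu := K458.HonB1.isUnit_xF k r
    let ρ : Γ((QO k r).left, ⊤) →+* Γ(A.base.left, ⊤) := a.base.left.appTop.hom
    have hm : ∀ b : Γ((QO k r).left, ⊤), IsUnit b → IsUnit (ρ b) := fun b hb => hb.map ρ
    refine (K15.HonB2.existsUnique_toQO k r A.base (fun i => a.base.left.appTop (xF k r i))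
      (fun i => hm _ (hu.1 i)) (fun i => ?_) (fun i j hij => ?_)).unique (fun i => rfl) (fun i => (h6 i).symm)
    · have h8 := hm _ (hu.2.1 i)
      rw [map_sub, map_one] at h8
      exact h8
    · have h8 := hm _ (hu.2.2 i j hij)
      rw [map_sub] at h8
      exact h8
  refine CurvSt.PtFamObj.hom_ext h7 ?_
  rw [← h2, ← h2', h5, h7]

/-- A family which is a projective line with distinct sections has a morphism to `B0`. -/
theorem exists_hom {A : CurvSt.PtFamObj (Spec (CommRingCat.of k)) (r + 3)} (ψ : A.C ≅ P1 A.base.left)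
    (h1 : ψ.hom ≫ pr A.base.left = A.f) (h2 : ∀ i, A.sect (Fin.natAdd r i) ≫ ψ.hom = std3 _ i)
    (hne : ∀ i j, i ≠ j → ∀ t, A.sect i t ≠ A.sect j t) : Nonempty (A ⟶ B0 k r) := by
  have hinj : Function.Injective ψ.hom := ψ.hom.homeomorph.injective
  have hne' : ∀ i j, i ≠ j → ∀ t, (A.sect i ≫ ψ.hom) t ≠ (A.sect j ≫ ψ.hom) t := fun i j hij t ht =>
    hne i j hij t (hinj ht)
  have hnat : ∀ (i : Fin r) (j : Fin 3), Fin.castAdd 3 i ≠ Fin.natAdd r j := fun i j h => by
    have := congrArg Fin.val h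
    simp only [Fin.val_castAdd, Fin.val_natAdd] at this
    omega
  choose b hb using fun i : Fin r => exists_eq_aff (A.sect (Fin.castAdd 3 i) ≫ ψ.hom)
    (by rw [Category.assoc, h1, A.sect_f]) (fun t => by
      have h3 : inf A.base.left = A.sect (Fin.natAdd r 2) ≫ ψ.hom := (h2 2).symm
      rw [h3]
      exact hne' _ _ (hnat i 2) t)
  have hu0 : ∀ i, IsUnit (b i) := fun i => by
    have h3 : aff (0 : Γ(A.base.left, ⊤)) = A.sect (Fin.natAdd r 0) ≫ ψ.hom := (h2 0).symm
    have h4 := (aff_ne_iff (b i) 0).1 (fun t => by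
      rw [← hb i, h3]
      exact hne' _ _ (hnat i 0) t)
    rwa [sub_zero] at h4
  have hu1 : ∀ i, IsUnit (b i - 1) := fun i => by
    have h3 : aff (1 : Γ(A.base.left, ⊤)) = A.sect (Fin.natAdd r 1) ≫ ψ.hom := (h2 1).symm
    exact (aff_ne_iff (b i) 1).1 (fun t => by
      rw [← hb i, h3]
      exact hne' _ _ (hnat i 1) t)
  have hu2 : ∀ i j, i ≠ j → IsUnit (b i - b j) := fun i j hij => (aff_ne_iff (b i) (b j)).1 (fun t => by
      rw [← hb i, ← hb j]
      exact hne' _ _ (fun h => hij (Fin.castAdd_injective _ _ h)) t)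
  obtain ⟨g, hg, -⟩ := K15.HonB2.existsUnique_toQO k r A.base b hu0 hu1 hu2
  refine ⟨{ base := g, top := ψ.hom ≫ pmap g.left, cart := ?_, w_sect := ?_ }⟩
  · have h3 : IsPullback ψ.hom A.f (pr A.base.left) (𝟙 _) :=
      IsPullback.of_horiz_isIso ⟨by rw [h1, Category.comp_id]⟩
    have h4 := h3.paste_horiz (isPullback_pmap g.left)
    rw [Category.id_comp] at h4
    exact h4
  · have e1 : ∀ i, A.sect (Fin.castAdd 3 i) ≫ ψ.hom ≫ pmap g.left = g.left ≫ aff (xF k r i) := fun i => by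
      rw [← Category.assoc, hb i, ← hg i]
      exact aff_pmap _ _
    have e2 : ∀ i, A.sect (Fin.natAdd r i) ≫ ψ.hom ≫ pmap g.left = g.left ≫ std3 (QO k r).left i := fun i => by
      rw [← Category.assoc, h2 i]
      exact std3_pmap _ _
    refine Fin.addCases (fun i => ?_) (fun i => ?_)
    · exact (e1 i).trans (congrArg (fun x => g.left ≫ x) (B0_castAdd i)).symm
    · exact (e2 i).trans (congrArg (fun x => g.left ≫ x) (B0_natAdd i)).symm

/-- The sections of a prestable family are different at every point. -/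
theorem sect_ne {S : Scheme.{u}} {N : ℕ} {A : CurvSt.PtFamObj S N} (hA : IsPre A) {i j : Fin N} (hij : i ≠ j)
    (t : A.base.left) : A.sect i t ≠ A.sect j t := by
  intro he
  have hsep : IsProper A.f := hA.2.1
  obtain ⟨Ω, _, _, g, rfl⟩ := K384.RecGen.exists_geom t
  have hP := IsPullback.of_hasPullback A.f g
  obtain ⟨-, -, -, -, hinj, -⟩ := hA.2.2.2 Ω g _ _ _ hP
  refine hij (hinj ?_)
  have h1 := K384.RecGen.comp_eq_of_apply_eq (A.sect_f i) (A.sect_f j) g he
  have h2 : hP.lift (g ≫ A.sect i) (𝟙 _) (by rw [Category.assoc, A.sect_f, Category.comp_id, Category.id_comp]) =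
      hP.lift (g ≫ A.sect j) (𝟙 _) (by rw [Category.assoc, A.sect_f, Category.comp_id, Category.id_comp]) := by
    congr 1
  exact congrArg (fun z : Spec (CommRingCat.of Ω) ⟶ _ => z.base (IsLocalRing.closedPoint Ω)) h2

/-- Node HB5. -/
theorem exists_prod (hrec : Rec.{u}) (Y : CurvSt.PtFamObj (Spec (CommRingCat.of k)) (r + 3)) (hY : IsPre Y) :
    ∃ (Z : CurvSt.PtFamObj (Spec (CommRingCat.of k)) (r + 3)) (α : Z ⟶ B0 k r) (β : Z ⟶ Y),
      (∀ (Z' : CurvSt.PtFamObj (Spec (CommRingCat.of k)) (r + 3)) (a : Z' ⟶ B0 k r) (b : Z' ⟶ Y),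
        ∃! z : Z' ⟶ Z, z ≫ α = a ∧ z ≫ β = b) ∧ IsOpenImmersion β.base.left := by
  obtain ⟨W, hW⟩ := K15.HonB2.exists_smooth_locus Y hY
  obtain ⟨Z, β, hβ, hβr⟩ : ∃ (Z : CurvSt.PtFamObj (Spec (CommRingCat.of k)) (r + 3)) (β : Z ⟶ Y),
      IsOpenImmersion β.base.left ∧ Set.range β.base.left = (W : Set Y.base.left) := by
    let V : Over (Spec (CommRingCat.of k)) := Over.mk (W.ι ≫ Y.base.hom)
    let w : V ⟶ Y.base := Over.homMk W.ι rfl
    exact ⟨K314.CrvPull.bc Y w, K314.CrvPull.bcHom Y w, inferInstanceAs (IsOpenImmersion W.ι), W.range_ι⟩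
  have hZ : IsPre Z := K314.CrvPull.IsPre.of_hom β hY
  -- the fibres of `Z` are smooth
  have hsm : ∀ (Ω : Type u) [Field Ω] [IsAlgClosed Ω] (t : Spec (CommRingCat.of Ω) ⟶ Z.base.left) (Xt : Scheme.{u})
      (i : Xt ⟶ Z.C) (q : Xt ⟶ Spec (CommRingCat.of Ω)), IsPullback i q Z.f t → Smooth q := by
    intro Ω _ _ t Xt i q hP
    refine (hW Ω (t ≫ β.base.left) Xt (i ≫ β.top) q (hP.paste_horiz β.cart)).1 ?_
    rw [← hβr]
    rintro _ ⟨x, rfl⟩
    exact ⟨t x, rfl⟩
  obtain ⟨φ, hφ1, hφ2⟩ := hrec Z.f (fun i => Z.sect (Fin.natAdd r i)) (fun i => Z.sect_f _) hZ.1 hZ.2.1 hZ.2.2.1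
    (fun Ω _ _ t Xt i q hP => by
      obtain ⟨a1, a2, a3, a4, a5, a6⟩ := hZ.2.2.2 Ω t Xt i q hP
      exact ⟨⟨a1, a2, a3, a4, fun x y hxy => Fin.natAdd_injective _ _ (a5 hxy), fun j => a6 _⟩, hsm Ω t Xt i q hP⟩)
  obtain ⟨α⟩ := exists_hom φ hφ1 hφ2 fun i j hij t => sect_ne hZ hij t
  refine ⟨Z, α, β, fun Z' a b => ?_, hβ⟩
  -- factorization through the open subscheme
  have hr : Set.range b.base.left ⊆ Set.range β.base.left := by
    rintro _ ⟨z, rfl⟩
    obtain ⟨Ω, _, _, t, rfl⟩ := K384.RecGen.exists_geom z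
    have hP := IsPullback.of_hasPullback Z'.f t
    have h1 : Smooth (pr (QO k r).left) := K188.FamIso.smooth_pr _
    have h2 : Smooth (pullback.snd Z'.f t) := MorphismProperty.of_isPullback (hP.paste_horiz a.cart) h1
    have h3 := (hW Ω (t ≫ b.base.left) _ _ _ (hP.paste_horiz b.cart)).2 h2
    rw [hβr]
    exact h3 ⟨IsLocalRing.closedPoint Ω, rfl⟩
  let g : Z'.base ⟶ Z.base := Over.homMk (IsOpenImmersion.lift β.base.left b.base.left hr) (by
    rw [← Over.w β.base, IsOpenImmersion.lift_fac_assoc, Over.w b.base])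
  have hg : g ≫ β.base = b.base := Over.OverMorphism.ext (IsOpenImmersion.lift_fac _ _ _)
  obtain ⟨z, ⟨hz1, hz2⟩, hz3⟩ := K314.CrvPull.existsUnique_fac β g b hg
  refine ⟨z, ⟨hom_unique _ _, hz2⟩, fun z' ⟨_, hz'⟩ => hz3 z' ⟨?_, hz'⟩⟩
  have h4 : z'.base ≫ β.base = g ≫ β.base := by rw [hg, ← hz']; rfl
  have h5 : z'.base.left ≫ β.base.left = g.left ≫ β.base.left := congrArg CommaMorphism.left h4
  exact Over.OverMorphism.ext ((cancel_mono β.base.left).1 h5)

/-- The products with `B0` exist. -/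
theorem prodB0 (hrec : Rec.{u}) : ProdB0 k r := by
  intro Y hY
  obtain ⟨Z, α, β, h, hβ⟩ := exists_prod hrec Y hY
  exact ⟨Z, α, β, h, inferInstance⟩

variable (k r) in
/-- The chart of curves given by `B0`. -/
theorem exists_crvChart (hrec : Rec.{u}) : ∃ c : CrvChart k (r + 3), c.B = B0 k r :=
  ⟨c0 r (K458.HonB1.isPre_B0 k r) (prodB0 hrec), rfl⟩

end K384.Hb5
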