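import Groth.Agent.Fano.K384.RecNorm

set_option autoImplicit false

universe u

open CategoryTheory CategoryTheory.Limits AlgebraicGeometry TopologicalSpace

namespace K384.RecNorm

open K390.PnSec Groth.Agent.Fdesc.LocGen Groth.Agent.Dix.ProjProper
open K188.LineDef K188.LinFun K188.LinP1 K239.HonDef K639.HonA

variable {X T T' T'' : Scheme.{u}}

theorem std3_pmap (g : T' ⟶ T) (i : Fin 3) : std3 T' i ≫ pmap g = g ≫ std3 T i := by
  fin_cases i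
  · have h := aff_pmap g 0
    rw [map_zero] at h
    exact h
  · have h := aff_pmap g 1
    rw [map_one] at h
    exact h
  · exact inf_pmap g

/-- Base change of an endomorphism of the projective line. -/
noncomputable def bcEnd (g : T' ⟶ T) (θ : P1 T ⟶ P1 T) : P1 T' ⟶ P1 T' := liftP ((pmap g ≫ θ) ≫ toZ 1 T) (pr T')

theorem bcEnd_pr (g : T' ⟶ T) (θ : P1 T ⟶ P1 T) : bcEnd g θ ≫ pr T' = pr T' := liftP_toBase _ _

theorem bcEnd_toZ (g : T' ⟶ T) (θ : P1 T ⟶ P1 T) : bcEnd g θ ≫ toZ 1 T' = (pmap g ≫ θ) ≫ toZ 1 T := liftP_toZ _ _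

theorem bcEnd_pmap (g : T' ⟶ T) {θ : P1 T ⟶ P1 T} (hθ : θ ≫ pr T = pr T) : bcEnd g θ ≫ pmap g = pmap g ≫ θ := by
  refine hom_ext_over ?_ ?_
  · rw [Category.assoc, pmap_toZ, bcEnd_toZ]
  · rw [Category.assoc, pmap_pr, ← Category.assoc, bcEnd_pr, Category.assoc, hθ, pmap_pr]

theorem eq_bcEnd (g : T' ⟶ T) {θ : P1 T ⟶ P1 T} {η : P1 T' ⟶ P1 T'} (h1 : η ≫ pr T' = pr T')
    (h2 : η ≫ pmap g = pmap g ≫ θ) : η = bcEnd g θ := by
  refine hom_ext_over ?_ (h1.trans (bcEnd_pr g θ).symm)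
  rw [bcEnd_toZ, ← h2, Category.assoc, pmap_toZ]

theorem bcEnd_id (g : T' ⟶ T) : bcEnd g (𝟙 (P1 T)) = 𝟙 _ :=
  (eq_bcEnd g (Category.id_comp _) (by rw [Category.id_comp, Category.comp_id])).symm

theorem bcEnd_comp (g : T' ⟶ T) {θ η : P1 T ⟶ P1 T} (hθ : θ ≫ pr T = pr T) (hη : η ≫ pr T = pr T) :
    bcEnd g θ ≫ bcEnd g η = bcEnd g (θ ≫ η) := by
  refine eq_bcEnd g (by rw [Category.assoc, bcEnd_pr, bcEnd_pr]) ?_
  rw [Category.assoc, bcEnd_pmap g hη, ← Category.assoc, bcEnd_pmap g hθ, Category.assoc]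

theorem isIso_bcEnd (g : T' ⟶ T) {θ : P1 T ⟶ P1 T} (hθ : θ ≫ pr T = pr T) [IsIso θ] : IsIso (bcEnd g θ) := by
  have hi : inv θ ≫ pr T = pr T := by rw [IsIso.inv_comp_eq, hθ]
  refine ⟨bcEnd g (inv θ), ?_, ?_⟩
  · rw [bcEnd_comp g hθ hi, IsIso.hom_inv_id, bcEnd_id]
  · rw [bcEnd_comp g hi hθ, IsIso.inv_hom_id, bcEnd_id]

theorem isPullback_bcEnd (g : T' ⟶ T) {θ : P1 T ⟶ P1 T} (hθ : θ ≫ pr T = pr T) :
    IsPullback (pmap g) (bcEnd g θ) θ (pmap g) := by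
  refine IsPullback.of_bot (v₂₁ := pr T') (v₂₂ := pr T) (h₃₁ := g) ?_ (bcEnd_pmap g hθ).symm (isPullback_pmap g)
  rw [bcEnd_pr, hθ]
  exact isPullback_pmap g

/-- Base change of a section of the projective line. -/
theorem exists_sect (g : T' ⟶ T) {s : T ⟶ P1 T} (hs : s ≫ pr T = 𝟙 T) :
    ∃ s' : T' ⟶ P1 T', s' ≫ pr T' = 𝟙 T' ∧ s' ≫ pmap g = g ≫ s := by
  refine ⟨(isPullback_pmap g).lift (g ≫ s) (𝟙 T') (by rw [Category.assoc, hs, Category.comp_id, Category.id_comp]),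
    (isPullback_pmap g).lift_snd _ _ _, (isPullback_pmap g).lift_fst _ _ _⟩

/-- The values of the base change. -/
theorem sect_bcEnd (g : T' ⟶ T) {θ : P1 T ⟶ P1 T} (hθ : θ ≫ pr T = pr T) {s : T ⟶ P1 T} {s' : T' ⟶ P1 T'}
    (h1 : s' ≫ pr T' = 𝟙 T') (h2 : s' ≫ pmap g = g ≫ s) {i : Fin 3} (h : s ≫ θ = std3 T i) :
    s' ≫ bcEnd g θ = std3 T' i := by
  refine (isPullback_pmap g).hom_ext ?_ ?_
  · rw [Category.assoc, bcEnd_pmap g hθ, ← Category.assoc, h2, Category.assoc, h, std3_pmap]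
  · rw [Category.assoc, bcEnd_pr, h1, std3_pr]

/-- Uniqueness of the normalization. -/
theorem uniq {s : Fin 3 → (T ⟶ P1 T)} {θ η : P1 T ⟶ P1 T} (hθ : θ ≫ pr T = pr T) (hη : η ≫ pr T = pr T) [IsIso θ]
    [IsIso η] (h1 : ∀ i, s i ≫ θ = std3 T i) (h2 : ∀ i, s i ≫ η = std3 T i) : θ = η := by
  have h3 : inv θ ≫ η = 𝟙 _ := by
    refine eq_id_of_std3 _ ?_ fun i => ?_
    · rw [Category.assoc, hη, IsIso.inv_comp_eq, hθ]
    · rw [← h1 i, Category.assoc, IsIso.hom_inv_id_assoc, h2, h1]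
  rw [IsIso.inv_comp_eq, Category.comp_id] at h3
  exact h3.symm

/-- The chart at the base change of a section. -/
theorem mem_V_pmap (g : T' ⟶ T) (a : Fin (1 + 1)) (x : P1 T') : pmap g x ∈ V T a ↔ x ∈ V T' a := by
  have h1 : toZ 1 T (pmap g x) = toZ 1 T' x := congr($(pmap_toZ g) x)
  have h2 : (toZ 1 T (pmap g x) ∈ (Groth.Agent.Ega2.H295.PnUniq.Dp (Fin (1 + 1)) Z.{u} a :
      (CohB1.ProjSpace 1 Z.{u}).Opens)) ↔ (toZ 1 T' x ∈ (Groth.Agent.Ega2.H295.PnUniq.Dp (Fin (1 + 1)) Z.{u} a :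
      (CohB1.ProjSpace 1 Z.{u}).Opens)) := by rw [h1]
  exact h2

/-- Three disjoint sections of the projective line. -/
theorem exists_std_glob (s : Fin 3 → (T ⟶ P1 T)) (hs : ∀ i, s i ≫ pr T = 𝟙 T)
    (hne : ∀ i j, i ≠ j → ∀ t, s i t ≠ s j t) :
    ∃ θ : P1 T ⟶ P1 T, θ ≫ pr T = pr T ∧ IsIso θ ∧ ∀ i, s i ≫ θ = std3 T i := by
  let U : Fin (1 + 1) → T.Opens := fun a => s 2 ⁻¹ᵁ V T a
  have hU : ∀ t : T, ∃ a, t ∈ U a := fun t => by
    rcases mem_V_or (s 2 t) with h | h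
    · exact ⟨0, h⟩
    · exact ⟨1, h⟩
  let ι : ∀ a, (U a).toScheme ⟶ T := fun a => (U a).ι
  -- the sections over the pieces
  choose σ hσ1 hσ2 using fun a => fun i => exists_sect (ι a) (hs i)
  have hσne : ∀ a i j, i ≠ j → ∀ t, σ a i t ≠ σ a j t := fun a i j hij t h => by
    refine hne i j hij (ι a t) ?_
    have h1 := congr($(hσ2 a i) t)
    have h2 := congr($(hσ2 a j) t)
    have h3 : pmap (ι a) (σ a i t) = pmap (ι a) (σ a j t) := by rw [h]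
    exact h1.symm.trans (h3.trans h2)
  have hσV : ∀ a t, σ a 2 t ∈ V _ a := fun a t => by
    rw [← mem_V_pmap (ι a)]
    have h1 : pmap (ι a) (σ a 2 t) = s 2 (ι a t) := congr($(hσ2 a 2) t)
    rw [h1]
    exact t.2
  choose θ hθ1 hθ2 hθ3 using fun a => exists_std (σ a) (hσ1 a) (hσne a) a (hσV a)
  -- compatibility
  have key : ∀ (a b : Fin (1 + 1)) (Z : Scheme.{u}) (p : Z ⟶ P1 (U a)) (q : Z ⟶ P1 (U b)),
      p ≫ pmap (ι a) = q ≫ pmap (ι b) → p ≫ θ a ≫ pmap (ι a) = q ≫ θ b ≫ pmap (ι b) := by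
    intro a b Z p q hpq
    obtain ⟨ha, rha⟩ : ∃ ha : Z ⟶ U a, ha = p ≫ pr _ := ⟨_, rfl⟩
    obtain ⟨hb, rhb⟩ : ∃ hb : Z ⟶ U b, hb = q ≫ pr _ := ⟨_, rfl⟩
    have hab : ha ≫ ι a = hb ≫ ι b := by
      have h1 := congr($hpq ≫ pr T)
      rw [Category.assoc, pmap_pr, Category.assoc, pmap_pr] at h1
      rw [rha, rhb, Category.assoc, Category.assoc]
      exact h1
    have hZ : p ≫ toZ 1 _ = q ≫ toZ 1 _ := by
      have h1 := congr($hpq ≫ toZ 1 T)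
      rwa [Category.assoc, pmap_toZ, Category.assoc, pmap_toZ] at h1
    let δ : Z ⟶ P1 Z := liftP (p ≫ toZ 1 _) (𝟙 Z)
    have hδ1 : δ ≫ pmap ha = p := by
      refine hom_ext_over ?_ ?_
      · rw [Category.assoc, pmap_toZ, liftP_toZ]
      · rw [Category.assoc, pmap_pr, ← Category.assoc, liftP_toBase, Category.id_comp, rha]
    have hδ2 : δ ≫ pmap hb = q := by
      refine hom_ext_over ?_ ?_
      · rw [Category.assoc, pmap_toZ, liftP_toZ, hZ]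
      · rw [Category.assoc, pmap_pr, ← Category.assoc, liftP_toBase, Category.id_comp, rhb]
    choose τ hτ1 hτ2 using fun i => exists_sect (ha ≫ ι a) (hs i)
    have hτa : ∀ i, τ i ≫ pmap ha = ha ≫ σ a i := fun i => by
      refine (isPullback_pmap (ι a)).hom_ext ?_ ?_
      · rw [Category.assoc, pmap_comp, hτ2, Category.assoc, Category.assoc, hσ2]
      · rw [Category.assoc, pmap_pr, ← Category.assoc, hτ1, Category.id_comp, Category.assoc, hσ1, Category.comp_id]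
    have hτb : ∀ i, τ i ≫ pmap hb = hb ≫ σ b i := fun i => by
      refine (isPullback_pmap (ι b)).hom_ext ?_ ?_
      · rw [Category.assoc, pmap_comp, ← hab, hτ2, hab, Category.assoc, Category.assoc, hσ2]
      · rw [Category.assoc, pmap_pr, ← Category.assoc, hτ1, Category.id_comp, Category.assoc, hσ1, Category.comp_id]
    have hia := isIso_bcEnd ha (hθ1 a)
    have hib := isIso_bcEnd hb (hθ1 b)
    have he : bcEnd ha (θ a) = bcEnd hb (θ b) := uniq (s := τ) (bcEnd_pr _ _) (bcEnd_pr _ _)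
      (fun i => sect_bcEnd ha (hθ1 a) (hτ1 i) (hτa i) (hθ3 a i))
      (fun i => sect_bcEnd hb (hθ1 b) (hτ1 i) (hτb i) (hθ3 b i))
    calc p ≫ θ a ≫ pmap (ι a) = δ ≫ (pmap ha ≫ θ a) ≫ pmap (ι a) := by
          rw [Category.assoc, ← Category.assoc δ, hδ1]
      _ = δ ≫ bcEnd ha (θ a) ≫ pmap (ha ≫ ι a) := by
          rw [← bcEnd_pmap ha (hθ1 a), Category.assoc, pmap_comp]
      _ = δ ≫ (pmap hb ≫ θ b) ≫ pmap (ι b) := by
          rw [he, hab, ← bcEnd_pmap hb (hθ1 b), Category.assoc, pmap_comp]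
      _ = q ≫ θ b ≫ pmap (ι b) := by rw [Category.assoc, ← Category.assoc δ, hδ2]
  -- the coverings
  let 𝒰 : T.OpenCover := Scheme.Cover.mkOfCovers (ULift.{u} (Fin (1 + 1))) (fun a => (U a.down).toScheme)
    (fun a => ι a.down) (fun t => by
      obtain ⟨a, ha⟩ := hU t
      exact ⟨⟨a⟩, ⟨t, ha⟩, rfl⟩) (fun a => inferInstanceAs (IsOpenImmersion (U a.down).ι))
  have hopen : ∀ a, IsOpenImmersion (pmap (ι a)) := fun a =>
    MorphismProperty.of_isPullback (P := @IsOpenImmersion) (isPullback_pmap (ι a)).flip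
      (inferInstanceAs (IsOpenImmersion (U a).ι))
  let 𝒱 : (P1 T).OpenCover := Scheme.Cover.mkOfCovers (ULift.{u} (Fin (1 + 1))) (fun a => P1 (U a.down))
    (fun a => pmap (ι a.down)) (fun x => by
      obtain ⟨a, ha⟩ := hU (pr T x)
      obtain ⟨z, hz, -⟩ := Scheme.Pullback.exists_preimage_pullback (f := pr T) (g := ι a) x ⟨pr T x, ha⟩ rfl
      refine ⟨⟨a⟩, (isPullback_pmap (ι a)).isoPullback.inv z, ?_⟩
      rw [← hz, ← Scheme.Hom.comp_apply, (isPullback_pmap (ι a)).isoPullback_inv_fst]) (fun a => hopen a.down)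
  let Θ : P1 T ⟶ P1 T := 𝒱.glueMorphisms (fun a => θ a.down ≫ pmap (ι a.down)) fun a b =>
    key a.down b.down _ _ _ pullback.condition
  have hΘ : ∀ a, pmap (ι a) ≫ Θ = θ a ≫ pmap (ι a) := fun a =>
    Scheme.Cover.ι_glueMorphisms 𝒱 _ _ ⟨a⟩
  have hΘ1 : Θ ≫ pr T = pr T := 𝒱.hom_ext _ _ fun a => by
    change pmap (ι a.down) ≫ Θ ≫ pr T = pmap (ι a.down) ≫ pr T
    rw [← Category.assoc, hΘ, Category.assoc, pmap_pr, ← Category.assoc, hθ1]
  refine ⟨Θ, hΘ1, ?_, fun i => 𝒰.hom_ext _ _ fun a => ?_⟩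
  · have h1 : ∀ a, IsPullback (pmap (ι a)) (θ a) Θ (pmap (ι a)) := fun a => by
      rw [eq_bcEnd (ι a) (θ := Θ) (hθ1 a) (hΘ a).symm]
      exact isPullback_bcEnd (ι a) hΘ1
    refine IsZariskiLocalAtTarget.of_openCover (P := MorphismProperty.isomorphisms Scheme.{u}) 𝒱 fun a => ?_
    change IsIso (pullback.snd Θ (pmap (ι a.down)))
    rw [← (h1 a.down).isoPullback_inv_snd]
    have := hθ2 a.down
    infer_instance
  · change ι a.down ≫ s i ≫ Θ = ι a.down ≫ std3 T i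
    rw [← Category.assoc, ← hσ2, Category.assoc, hΘ, ← Category.assoc, hθ3, std3_pmap]

end K384.RecNorm
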