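import Groth.Agent.Fano.K384.RecGlue
import Groth.Agent.Fano.K384.RecGen
import Groth.Agent.EssDim.K995.GenusZeroPt
import Groth.Agent.PicF.K247.RelDim
import Groth.Agent.S14490
import Groth.Agent.Krr.H484.PBUnique
import Groth.Agent.Krr.H484.PnFree

/-!
# Smooth families of curves of genus `0` with three disjoint sections (node REC of S16940)
-/

set_option autoImplicit false

universe u

open CategoryTheory CategoryTheory.Limits AlgebraicGeometry

namespace K384.Rec

open K188.LineDef K239.HonDef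

variable {T C : Scheme.{u}} {f : C ⟶ T}

theorem smoothOfRelativeDimension (h : ModFun.IsCurveOfGenus 0 f) : SmoothOfRelativeDimension 1 f := by
  have h1 : Smooth f := h.1
  have h2 : GeometricallyIrreducible f := h.2.2.1
  have h3 : GeometricallyConnected f := K995.CurveBasic.geometricallyConnected f
  refine K247.RelDim.curve f fun s => ?_
  exact K995.CurveBasic.dim_eq_one (k := T.residueField s) (K995.GenusField.isCurveOfGenus_of_isPullback
    (IsPullback.of_hasPullback f (T.fromSpecResidueField s)) h)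

theorem geomFib (h : ModFun.IsCurveOfGenus 0 f) {σ : T ⟶ C} (hσ : σ ≫ f = 𝟙 T) (Ω : Type u) [Field Ω]
    (b : Spec (CommRingCat.of Ω) ⟶ T) :
    ∃ e : pullback f b ≅ CohB1.ProjSpace 1 Ω, e.hom ≫ CohB1.ProjSpace.toSpec 1 Ω = pullback.snd f b :=
  K995.GenusZeroPt.exists_iso_P1
    (K995.GenusField.isCurveOfGenus_of_isPullback (IsPullback.of_hasPullback f b) h)
    (pullback.lift (b ≫ σ) (𝟙 _) (by rw [Category.assoc, hσ, Category.comp_id, Category.id_comp]))
    (pullback.lift_snd _ _ _)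

/-- A family of smooth curves of genus `0` with three disjoint sections is the projective line. -/
theorem exists_iso (h : ModFun.IsCurveOfGenus 0 f) (σ : Fin 3 → (T ⟶ C)) (hσ : ∀ i, σ i ≫ f = 𝟙 T)
    (hne : ∀ i j, i ≠ j → ∀ t, σ i t ≠ σ j t) : ∃ ψ : C ≅ P1 T, ψ.hom ≫ pr T = f := by
  have h1 := smoothOfRelativeDimension h
  have h2 : IsProper f := h.2.1
  have hd : ∀ i j, i ≠ j → Disjoint (Set.range (σ i)) (Set.range (σ j)) := by
    intro i j hij
    rw [Set.disjoint_left]
    rintro _ ⟨t, rfl⟩ ⟨t', ht'⟩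
    have h3 : t' = t := by
      have e1 : f (σ j t') = t' := congr($(hσ j) t')
      have e2 : f (σ i t) = t := congr($(hσ i) t)
      rw [← e1, ht', e2]
    rw [h3] at ht'
    exact hne i j hij t ht'.symm
  obtain ⟨O1, q, hPB⟩ := Groth.Agent.S14490.result f (fun Ω _ _ b => geomFib h (hσ 0) Ω b) (σ 0) (σ 1) (σ 2)
    (hσ 0) (hσ 1) (hσ 2) (hd 0 1 (by decide)) (hd 0 2 (by decide)) (hd 1 2 (by decide))
  obtain ⟨ψ, hψ, -⟩ := Groth.Agent.Krr.H484.PBUnique.exists_iso hPB
    (Groth.Agent.Krr.H484.PnFree.isProjBundle_over 1 T)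
  exact ⟨ψ, hψ⟩

/-- Node REC. -/
theorem main : Rec.{u} := by
  intro T C f σ hσ hf1 hf2 hf3 hfib
  have hfib' : K384.RecGen.Fib f σ hσ := hfib
  have h := K384.RecGen.isCurveOfGenus hfib'
  have hne : ∀ i j, i ≠ j → ∀ t, σ i t ≠ σ j t := fun i j hij t => K384.RecGen.sect_ne hfib' hij t
  obtain ⟨ψ, hψ⟩ := exists_iso h σ hσ hne
  have hinj : Function.Injective ψ.hom := ψ.hom.homeomorph.injective
  obtain ⟨θ, hθ1, hθ2, hθ3⟩ := K384.RecNorm.exists_std_glob (fun i => σ i ≫ ψ.hom)
    (fun i => by rw [Category.assoc, hψ, hσ]) (fun i j hij t ht => hne i j hij t (hinj ht))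
  refine ⟨ψ ≪≫ asIso θ, ?_, fun i => ?_⟩
  · rw [Iso.trans_hom, asIso_hom, Category.assoc, hθ1, hψ]
  · rw [Iso.trans_hom, asIso_hom, ← Category.assoc, hθ3]

end K384.Rec
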