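import Groth.Agent.Fano.K639.HonA2

/-!
# Moving three disjoint sections of the projective line to `[1 : 0]`, `[1 : 1]`, `[0 : 1]`

* `exists_std`: if the third section lies in one of the two charts.
* `exists_std_glob`: in general (gluing).
-/

set_option autoImplicit false

universe u

open CategoryTheory CategoryTheory.Limits AlgebraicGeometry TopologicalSpace

namespace K384.RecNorm

open K390.PnSec Groth.Agent.Fdesc.LocGen Groth.Agent.Dix.ProjProper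
open K188.LineDef K188.LinFun K188.LinP1 K239.HonDef K639.HonA

variable {X T T' : Scheme.{u}}

/-- Scaling of coordinates. -/
theorem scale {n : ℕ} {R : Type u} [CommRing R] {r : X ⟶ CohB1.ProjSpace n R} {x y : Fin (n + 1) → Γ(X, ⊤)}
    {w : Γ(X, ⊤)} (hw : IsUnit w) (hxy : ∀ a, x a = y a * w)
    (h : GivenBy r (Coh.structureModule X) (fun a => ofFun (x a))) :
    GivenBy r (Coh.structureModule X) (fun a => ofFun (y a)) := by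
  obtain ⟨e, he⟩ := exists_iso_of_isGen (m := (ofFun w : Γ(Coh.structureModule X, ⊤))) (by
    rw [ofFun_eq_smul]
    exact (isGen_one ⊤).unit_smul hw)
  have h1 := h.of_iso e
  have h2 : (fun a => e.hom.app ⊤ (ofFun (x a) : Γ(Coh.structureModule X, ⊤))) = fun a => ofFun (y a) := by
    funext a
    have h3 : (ofFun (x a) : Γ(Coh.structureModule X, ⊤)) = y a • ofFun w := by
      rw [hxy a, ofFun_eq_smul, ofFun_eq_smul, smul_smul]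
    rw [h3, ofFun_eq_smul (y a), ← he]
    exact Scheme.Modules.Hom.app_smul e.hom (y a) _
  exact h2 ▸ h1

/-- A linear automorphism and its values. -/
theorem exists_lin (v c : Fin (1 + 1) → Γ(T, ⊤)) (hdet : IsUnit (v 0 * c 1 - v 1 * c 0)) :
    ∃ θ : P1 T ⟶ P1 T, θ ≫ pr T = pr T ∧ IsIso θ ∧
      ∀ (s : T ⟶ P1 T) (_ : s ≫ pr T = 𝟙 T) (x y : Fin (1 + 1) → Γ(T, ⊤)),
        GivenBy (s ≫ toZ 1 T) (Coh.structureModule T) (fun a => ofFun (x a)) →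
        (∀ a, v a * x 0 + c a * x 1 = y a) →
        GivenBy ((s ≫ θ) ≫ toZ 1 T) (Coh.structureModule T) (fun a => ofFun (y a)) := by
  obtain ⟨θ, h1, h2⟩ := exists_end hdet
  refine ⟨θ, h1, isIso_of_lsec h1 h2 hdet, fun s hs x y hx hxy => ?_⟩
  have h3 := givenBy_comp_lsec' hx h2
  rw [hs, Scheme.Hom.id_appTop] at h3
  rw [Category.assoc]
  have h4 : (fun a => (ofFun ((𝟙 _ : Γ(T, ⊤) ⟶ Γ(T, ⊤)) (v a) * x 0 + (𝟙 _ : Γ(T, ⊤) ⟶ Γ(T, ⊤)) (c a) * x 1) :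
      Γ(Coh.structureModule T, ⊤))) = fun a => ofFun (y a) := by
    funext a
    rw [← hxy a]
    rfl
  exact h4 ▸ h3

/-- A section in a chart can be moved to `[0 : 1]`. -/
theorem exists_inf (s : T ⟶ P1 T) (hs : s ≫ pr T = 𝟙 T) (a : Fin (1 + 1)) (h : ∀ t, s t ∈ V T a) :
    ∃ θ : P1 T ⟶ P1 T, θ ≫ pr T = pr T ∧ IsIso θ ∧ s ≫ θ = inf T := by
  obtain ⟨f, hf⟩ := exists_eq_mp (ψ := s) a h
  rw [hs] at hf
  have hg := givenBy_mp a (𝟙 T) f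
  rw [← hf] at hg
  have key : ∀ (v c : Fin (1 + 1) → Γ(T, ⊤)) (_ : IsUnit (v 0 * c 1 - v 1 * c 0))
      (_ : ∀ b, v b * crds a f 0 + c b * crds a f 1 = (![0, 1] : Fin 2 → Γ(T, ⊤)) b),
      ∃ θ : P1 T ⟶ P1 T, θ ≫ pr T = pr T ∧ IsIso θ ∧ s ≫ θ = inf T := by
    intro v c hdet hb
    obtain ⟨θ, h1, h2, h3⟩ := exists_lin v c hdet
    refine ⟨θ, h1, h2, hom_ext_over ((h3 s hs _ _ hg hb).unique' givenBy_inf) ?_⟩
    rw [Category.assoc, h1, hs, inf_pr]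
  fin_cases a
  · refine key ![-f, 1] ![1, 0] ?_ fun b => ?_
    · have e : (![-f, 1] : Fin (1 + 1) → Γ(T, ⊤)) 0 * (![1, 0] : Fin (1 + 1) → Γ(T, ⊤)) 1 -
        (![-f, 1] : Fin (1 + 1) → Γ(T, ⊤)) 1 * (![1, 0] : Fin (1 + 1) → Γ(T, ⊤)) 0 = -1 := by simp
      rw [e]
      exact isUnit_one.neg
    · fin_cases b <;> simp [crds]
  · refine key ![1, 0] ![-f, 1] ?_ fun b => ?_
    · have e : (![1, 0] : Fin (1 + 1) → Γ(T, ⊤)) 0 * (![-f, 1] : Fin (1 + 1) → Γ(T, ⊤)) 1 -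
        (![1, 0] : Fin (1 + 1) → Γ(T, ⊤)) 1 * (![-f, 1] : Fin (1 + 1) → Γ(T, ⊤)) 0 = 1 := by simp
      rw [e]
      exact isUnit_one
    · fin_cases b <;> simp [crds]

/-- Moving `[1 : b₀]`, `[1 : b₁]` to `[1 : 0]`, `[1 : 1]`. -/
theorem exists_aff (b₀ b₁ : Γ(T, ⊤)) (hu : IsUnit (b₁ - b₀)) :
    ∃ θ : P1 T ⟶ P1 T, θ ≫ pr T = pr T ∧ IsIso θ ∧ aff b₀ ≫ θ = aff 0 ∧ aff b₁ ≫ θ = aff 1 ∧ inf T ≫ θ = inf T := by
  obtain ⟨w, hw⟩ := hu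
  have e1 : (↑w⁻¹ : Γ(T, ⊤)) * (b₁ - b₀) = 1 := by rw [← hw]; exact w.inv_mul
  obtain ⟨θ, h1, h2, h3⟩ := exists_lin (T := T) ![1, -b₀ * ↑w⁻¹] ![0, ↑w⁻¹] (by
    have e : (![1, -b₀ * ↑w⁻¹] : Fin (1 + 1) → Γ(T, ⊤)) 0 * (![0, ↑w⁻¹] : Fin (1 + 1) → Γ(T, ⊤)) 1 -
        (![1, -b₀ * ↑w⁻¹] : Fin (1 + 1) → Γ(T, ⊤)) 1 * (![0, ↑w⁻¹] : Fin (1 + 1) → Γ(T, ⊤)) 0 = ↑w⁻¹ := by simp
    rw [e]
    exact (w⁻¹).isUnit)
  refine ⟨θ, h1, h2, ?_, ?_, ?_⟩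
  · refine hom_ext_over ((h3 _ (aff_pr b₀) _ (![1, 0] : Fin 2 → Γ(T, ⊤)) (givenBy_aff b₀) fun b => ?_).unique'
      (givenBy_aff 0)) (by rw [Category.assoc, h1, aff_pr, aff_pr])
    fin_cases b
    · simp
    · change -b₀ * ↑w⁻¹ * 1 + ↑w⁻¹ * b₀ = 0
      ring
  · refine hom_ext_over ((h3 _ (aff_pr b₁) _ (![1, 1] : Fin 2 → Γ(T, ⊤)) (givenBy_aff b₁) fun b => ?_).unique'
      (givenBy_aff 1)) (by rw [Category.assoc, h1, aff_pr, aff_pr])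
    fin_cases b
    · simp
    · change -b₀ * ↑w⁻¹ * 1 + ↑w⁻¹ * b₁ = 1
      linear_combination e1
  · have h4 := h3 _ inf_pr _ (![0, ↑w⁻¹] : Fin 2 → Γ(T, ⊤)) givenBy_inf (fun b => by
      fin_cases b
      · simp
      · simp)
    have h5 := scale (y := (![0, 1] : Fin 2 → Γ(T, ⊤))) (w⁻¹).isUnit (fun a => by
      fin_cases a
      · simp
      · simp) h4
    exact hom_ext_over (h5.unique' givenBy_inf) (by rw [Category.assoc, h1, inf_pr])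

/-- Three disjoint sections, the third one in a chart. -/
theorem exists_std (s : Fin 3 → (T ⟶ P1 T)) (hs : ∀ i, s i ≫ pr T = 𝟙 T)
    (hne : ∀ i j, i ≠ j → ∀ t, s i t ≠ s j t) (a : Fin (1 + 1)) (h : ∀ t, s 2 t ∈ V T a) :
    ∃ θ : P1 T ⟶ P1 T, θ ≫ pr T = pr T ∧ IsIso θ ∧ ∀ i, s i ≫ θ = std3 T i := by
  obtain ⟨θ₁, h1, h2, h3⟩ := exists_inf (s 2) (hs 2) a h
  have hinj : Function.Injective θ₁ := θ₁.homeomorph.injective
  have key : ∀ i, i ≠ 2 → ∀ t, (s i ≫ θ₁) t ≠ inf T t := fun i hi t ht => by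
    rw [← h3] at ht
    exact hne i 2 hi t (hinj ht)
  obtain ⟨b₀, hb₀⟩ := exists_eq_aff (s 0 ≫ θ₁) (by rw [Category.assoc, h1, hs]) (key 0 (by decide))
  obtain ⟨b₁, hb₁⟩ := exists_eq_aff (s 1 ≫ θ₁) (by rw [Category.assoc, h1, hs]) (key 1 (by decide))
  have hu : IsUnit (b₁ - b₀) := by
    rw [← aff_ne_iff, ← hb₀, ← hb₁]
    exact fun t ht => hne 1 0 (by decide) t (hinj ht)
  obtain ⟨θ₂, h4, h5, h6, h7, h8⟩ := exists_aff b₀ b₁ hu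
  refine ⟨θ₁ ≫ θ₂, by rw [Category.assoc, h4, h1], inferInstance, fun i => ?_⟩
  fin_cases i
  · change s 0 ≫ θ₁ ≫ θ₂ = aff 0
    rw [← Category.assoc, hb₀, h6]
  · change s 1 ≫ θ₁ ≫ θ₂ = aff 1
    rw [← Category.assoc, hb₁, h7]
  · change s 2 ≫ θ₁ ≫ θ₂ = inf T
    rw [← Category.assoc, h3, h8]

end K384.RecNorm
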